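import Cfsg.Agent.SL2Trace.Order
import Cfsg.Agent.Linear.Basic

/-!
Elements of `SL(2,q)`: the upper unitriangular subgroup, split and non-split torus generators,
and elements inverting them.
-/

set_option autoImplicit false
set_option linter.style.haveILetI false

namespace CfsgLib.SL2Mult

open Matrix Polynomial
open scoped MatrixGroups
open CfsgLib.SL2Trace (det_eq_one companion mkSL coe_mkSL)

variable {F : Type*} [Field F]

/-- upper unitriangular element -/
def up (a : F) : SL(2, F) := mkSL !![1, a; 0, 1] (by simp [Matrix.det_fin_two_of])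

theorem up_add (a b : F) : up (a + b) = up a * up b := by
  apply Subtype.ext
  rw [Matrix.SpecialLinearGroup.coe_mul]
  ext i j
  fin_cases i <;> fin_cases j <;> simp [up, coe_mkSL, Matrix.mul_apply, add_comm]

theorem up_injective : Function.Injective (up (F := F)) := fun a b h => by
  simpa [up, coe_mkSL] using congrArg (fun g : SL(2, F) => (g : Matrix (Fin 2) (Fin 2) F) 0 1) h

/-- the root subgroup as a homomorphism -/
def upHom (F : Type*) [Field F] : Multiplicative F →* SL(2, F) where
  toFun a := up a.toAdd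
  map_one' := by
    apply Subtype.ext
    ext i j
    fin_cases i <;> fin_cases j <;> simp [up, coe_mkSL]
  map_mul' a b := up_add a.toAdd b.toAdd

theorem card_range_upHom [Fintype F] : Nat.card (upHom F).range = Fintype.card F := by
  rw [← Nat.card_congr (MonoidHom.ofInjective (f := upHom F)
    (fun a b h => Multiplicative.toAdd.injective (up_injective h))).toEquiv,
    Nat.card_congr Multiplicative.toAdd, Nat.card_eq_fintype_card]

/-- split torus -/
def torusHom (F : Type*) [Field F] : Fˣ →* SL(2, F) where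
  toFun μ := mkSL !![(μ : F), 0; 0, (μ : F)⁻¹] (by simp [Matrix.det_fin_two_of])
  map_one' := by
    apply Subtype.ext
    ext i j
    fin_cases i <;> fin_cases j <;> simp [coe_mkSL]
  map_mul' μ ν := by
    apply Subtype.ext
    rw [Matrix.SpecialLinearGroup.coe_mul]
    ext i j
    fin_cases i <;> fin_cases j <;> simp [coe_mkSL, Matrix.mul_apply, mul_comm]

@[simp] theorem coe_torusHom (μ : Fˣ) :
    ((torusHom F μ : SL(2, F)) : Matrix (Fin 2) (Fin 2) F) = !![(μ : F), 0; 0, (μ : F)⁻¹] := rfl

theorem torus_conj_up (μ : Fˣ) (a : F) :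
    torusHom F μ * up a * (torusHom F μ)⁻¹ = up ((μ : F) ^ 2 * a) := by
  rw [mul_inv_eq_iff_eq_mul]
  apply Subtype.ext
  rw [Matrix.SpecialLinearGroup.coe_mul, Matrix.SpecialLinearGroup.coe_mul]
  ext i j
  fin_cases i <;> fin_cases j <;> simp [up, coe_mkSL, Matrix.mul_apply]
  field_simp

theorem torusHom_injective : Function.Injective (torusHom F) := fun μ ν h => Units.ext <| by
  simpa using congrArg (fun g : SL(2, F) => (g : Matrix (Fin 2) (Fin 2) F) 0 0) h

theorem exists_split [Fintype F] :
    ∃ g : SL(2, F), orderOf g = Fintype.card F - 1 ∧ ∃ μ : Fˣ, g = torusHom F μ := by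
  classical
  obtain ⟨z, hz⟩ := IsCyclic.exists_generator (α := Fˣ)
  refine ⟨torusHom F z, ?_, z, rfl⟩
  rw [orderOf_injective (torusHom F) torusHom_injective, orderOf_eq_card_of_forall_mem_zpowers hz,
    Nat.card_eq_fintype_card, Fintype.card_units]

theorem sq_eq_one' (h2 : (2 : F) ≠ 0) {g : SL(2, F)} (hg : g * g = 1) : g = 1 ∨ g = -1 := by
  have hd := det_eq_one g
  have hi : g⁻¹ = g := inv_eq_of_mul_eq_one_right hg
  have hm : (g : Matrix (Fin 2) (Fin 2) F).adjugate = g := by
    rw [← Matrix.SpecialLinearGroup.coe_inv, hi]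
  rw [Matrix.adjugate_fin_two] at hm
  have e00 := congrFun (congrFun hm 0) 0
  have e01 := congrFun (congrFun hm 0) 1
  have e10 := congrFun (congrFun hm 1) 0
  simp at e00 e01 e10
  have h01 : g 0 1 = 0 := by
    have : (2 : F) * g 0 1 = 0 := by linear_combination -e01
    exact (mul_eq_zero.1 this).resolve_left h2
  have h10 : g 1 0 = 0 := by
    have : (2 : F) * g 1 0 = 0 := by linear_combination -e10
    exact (mul_eq_zero.1 this).resolve_left h2
  rw [h01, h10, e00] at hd
  have hsq : g 0 0 ^ 2 = 1 := by linear_combination hd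
  rcases sq_eq_one_iff.1 hsq with h | h
  · left
    apply Subtype.ext
    ext i j
    fin_cases i <;> fin_cases j <;> simp [h01, h10, e00, h]
  · right
    apply Subtype.ext
    ext i j
    fin_cases i <;> fin_cases j <;> simp [h01, h10, e00, h]

theorem pow_half_eq (h2 : (2 : F) ≠ 0) {g : SL(2, F)} {m : ℕ} (hm : 0 < m)
    (hg : orderOf g = 2 * m) : g ^ m = -1 := by
  refine (sq_eq_one' h2 (g := g ^ m) ?_).resolve_left ?_
  · rw [← pow_add, ← two_mul, ← hg, pow_orderOf_eq_one]
  · exact pow_ne_one_of_lt_orderOf hm.ne' (by omega)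

theorem exists_split_inverter (μ : Fˣ) :
    ∃ w : SL(2, F), w * torusHom F μ * w⁻¹ = (torusHom F μ)⁻¹ ∧ w * w = -1 := by
  refine ⟨mkSL !![0, 1; -1, 0] (by simp [Matrix.det_fin_two_of]), ?_, ?_⟩
  · rw [← map_inv, mul_inv_eq_iff_eq_mul]
    apply Subtype.ext
    rw [Matrix.SpecialLinearGroup.coe_mul, Matrix.SpecialLinearGroup.coe_mul]
    ext i j
    fin_cases i <;> fin_cases j <;> simp [coe_mkSL, Matrix.mul_apply]
  · apply Subtype.ext
    rw [Matrix.SpecialLinearGroup.coe_mul, Matrix.SpecialLinearGroup.coe_neg]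
    ext i j
    fin_cases i <;> fin_cases j <;> simp [coe_mkSL, Matrix.mul_apply]

/-- a generator of a non-split torus -/
theorem exists_nonsplit [Fintype F] : ∃ t : F, (∀ l : F, l ^ 2 - t * l + 1 ≠ 0) ∧
    orderOf (companion t) = Fintype.card F + 1 := by
  classical
  obtain ⟨p, hp⟩ := CharP.exists F
  obtain ⟨n, hpp, hq⟩ := FiniteField.card F p
  haveI := Fact.mk hpp
  have hq1 := Fintype.one_lt_card (α := F)
  have hns : ¬ Function.Surjective (fun x : F => x ^ 2 + x) := by
    intro hs
    have hi := Finite.injective_iff_surjective.2 hs (a₁ := 0) (a₂ := -1) (by simp)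
    exact neg_ne_zero.2 one_ne_zero hi.symm
  simp only [Function.Surjective, not_forall, not_exists] at hns
  obtain ⟨d, hd⟩ := hns
  let f : F[X] := X ^ 2 + X - C d
  have hdeg : f.natDegree = 2 := by simp only [f]; compute_degree!
  have hirr : Irreducible f := by
    rw [Polynomial.irreducible_iff_roots_eq_zero_of_degree_le_three (by omega) (by omega),
      Multiset.eq_zero_iff_forall_notMem]
    intro l hl
    have := (Polynomial.mem_roots'.1 hl).2
    simp [f] at this
    exact hd l (sub_eq_zero.1 this)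
  haveI : Fact (Irreducible f) := ⟨hirr⟩
  have hf0 : f ≠ 0 := hirr.ne_zero
  haveI : Module.Finite F (AdjoinRoot f) := (AdjoinRoot.powerBasis hf0).finite
  haveI : Finite (AdjoinRoot f) := Module.finite_of_finite F
  letI : Fintype (AdjoinRoot f) := Fintype.ofFinite _
  have hcard : Fintype.card (AdjoinRoot f) = Fintype.card F ^ 2 := by
    rw [Module.card_eq_pow_finrank (K := F), (AdjoinRoot.powerBasis hf0).finrank,
      AdjoinRoot.powerBasis_dim, hdeg]
  obtain ⟨z, hz⟩ := IsCyclic.exists_generator (α := (AdjoinRoot f)ˣ)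
  have hordz : orderOf (z : AdjoinRoot f) = (Fintype.card F - 1) * (Fintype.card F + 1) := by
    rw [orderOf_units, orderOf_eq_card_of_forall_mem_zpowers hz, Nat.card_eq_fintype_card,
      Fintype.card_units, hcard]
    obtain ⟨k, hk⟩ : ∃ k, Fintype.card F = k + 1 := ⟨Fintype.card F - 1, by omega⟩
    rw [hk, Nat.add_sub_cancel]; ring_nf; omega
  set w : AdjoinRoot f := (z : AdjoinRoot f) ^ (Fintype.card F - 1) with hwdef
  have hw : orderOf w = Fintype.card F + 1 := by
    rw [hwdef, orderOf_pow' _ (by omega), hordz, Nat.gcd_eq_right (dvd_mul_right _ _),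
      Nat.mul_div_cancel_left _ (by omega)]
  have hw0 : w ≠ 0 := pow_ne_zero _ z.ne_zero
  have hwq : w ^ Fintype.card F = w⁻¹ := by
    apply eq_inv_of_mul_eq_one_left
    rw [← pow_succ, ← hw, pow_orderOf_eq_one]
  haveI : CharP (AdjoinRoot f) p := charP_of_injective_ringHom (AdjoinRoot.of f).injective p
  obtain ⟨t, ht⟩ : ∃ t : F, AdjoinRoot.of f t = w + w⁻¹ := by
    have hfix : (w + w⁻¹) ^ Fintype.card F = w + w⁻¹ := by
      conv_lhs => rw [hq, ← iterateFrobenius_def, map_add, iterateFrobenius_def,
        iterateFrobenius_def, ← hq]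
      rw [inv_pow, hwq, inv_inv, add_comm]
    by_contra hno
    push Not at hno
    let P : (AdjoinRoot f)[X] := X ^ Fintype.card F - X
    have hP : P ≠ 0 := FiniteField.X_pow_card_sub_X_ne_zero _ Fintype.one_lt_card
    let S : Finset (AdjoinRoot f) := insert (w + w⁻¹) (Finset.univ.image (AdjoinRoot.of f))
    have hsub : S ⊆ P.roots.toFinset := by
      intro u hu
      rw [Multiset.mem_toFinset, Polynomial.mem_roots hP]
      rcases Finset.mem_insert.1 hu with rfl | hu'
      · simp [P, hfix]
      · obtain ⟨a, _, rfl⟩ := Finset.mem_image.1 hu'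
        simp [P, ← map_pow, FiniteField.pow_card]
    have h1 := Finset.card_le_card hsub
    have h2 : P.roots.toFinset.card ≤ Fintype.card F := by
      refine (Multiset.toFinset_card_le _).trans ((Polynomial.card_roots' P).trans ?_)
      rw [FiniteField.X_pow_card_sub_X_natDegree_eq _ Fintype.one_lt_card]
    have h3 : S.card = Fintype.card F + 1 := by
      rw [Finset.card_insert_of_notMem, Finset.card_image_of_injective _ (AdjoinRoot.of f).injective,
        Finset.card_univ]
      intro h
      obtain ⟨a, _, ha⟩ := Finset.mem_image.1 h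
      exact hno a ha
    omega
  have hroot : w ^ 2 - AdjoinRoot.of f t * w + 1 = 0 := by
    rw [ht]; field_simp; ring
  have hno : ∀ l : F, l ^ 2 - t * l + 1 ≠ 0 := by
    intro l hl
    have hl' : (AdjoinRoot.of f l) ^ 2 - AdjoinRoot.of f t * AdjoinRoot.of f l + 1 = 0 := by
      rw [← map_pow, ← map_mul, ← map_sub, ← map_one (AdjoinRoot.of f), ← map_add, hl, map_zero]
    have hl0 : l ≠ 0 := by rintro rfl; simp at hl
    have hfac : (AdjoinRoot.of f l - w) * (AdjoinRoot.of f l * w - 1) = 0 := by
      rw [ht] at hl'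
      field_simp at hl'
      linear_combination hl'
    obtain ⟨a, ha0, ha⟩ : ∃ a : F, a ≠ 0 ∧ AdjoinRoot.of f a = w := by
      rcases mul_eq_zero.1 hfac with h | h
      · exact ⟨l, hl0, sub_eq_zero.1 h⟩
      · exact ⟨l⁻¹, inv_ne_zero hl0, by
          rw [map_inv₀]; exact inv_eq_of_mul_eq_one_right (sub_eq_zero.1 h)⟩
    have : w ^ (Fintype.card F - 1) = 1 := by
      rw [← ha, ← map_pow, FiniteField.pow_card_sub_one_eq_one a ha0, map_one]
    have := Nat.le_of_dvd (by omega) (orderOf_dvd_of_pow_eq_one this)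
    omega
  refine ⟨t, hno, Nat.dvd_antisymm ?_ ?_⟩
  · exact orderOf_dvd_of_pow_eq_one
      (CfsgLib.SL2Trace.pow_card_add_one _ t (by simp [companion, Matrix.trace_fin_two]) hno)
  · rw [← hw]
    apply orderOf_dvd_of_pow_eq_one
    set N := orderOf (companion t)
    have hv : ∀ k : ℕ, (((companion t : Matrix (Fin 2) (Fin 2) F).map (AdjoinRoot.of f)) ^ k) *ᵥ
        ![1, -w] = w ^ k • ![1, -w] := by
      intro k
      induction k with
      | zero => simp
      | succ k ih =>
        have hC : ((companion t : Matrix (Fin 2) (Fin 2) F).map (AdjoinRoot.of f)) *ᵥ ![1, -w] =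
            w • ![1, -w] := by
          funext i
          fin_cases i <;> simp [companion, Matrix.mulVec, dotProduct, Fin.sum_univ_two]
          linear_combination hroot
        rw [pow_succ, ← Matrix.mulVec_mulVec, hC, Matrix.mulVec_smul, ih, smul_smul, pow_succ,
          mul_comm]
    have hval := hv N
    rw [← RingHom.mapMatrix_apply, ← map_pow, ← Matrix.SpecialLinearGroup.coe_pow,
      pow_orderOf_eq_one] at hval
    have := congrFun hval 0
    simpa using this.symm

theorem exists_nonsplit_inverter [Fintype F] (t : F) (h2 : (2 : F) ≠ 0)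
    (hno : ∀ l : F, l ^ 2 - t * l + 1 ≠ 0) :
    ∃ w : SL(2, F), w * companion t * w⁻¹ = (companion t)⁻¹ ∧ w * w = -1 := by
  have hτ : (-t) ^ 2 ≠ 4 := by
    intro h
    apply hno (t / 2)
    field_simp
    linear_combination -h
  obtain ⟨a, c, hac⟩ := CfsgLib.SL2Trace.exists_norm_eq (-t) (-1 : F) hτ
  refine ⟨mkSL !![a, t * a + c; c, -a] (by
    rw [Matrix.det_fin_two_of]; linear_combination -hac), ?_, ?_⟩
  · rw [mul_inv_eq_iff_eq_mul]
    apply Subtype.ext
    rw [Matrix.SpecialLinearGroup.coe_mul, Matrix.SpecialLinearGroup.coe_mul,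
      Matrix.SpecialLinearGroup.coe_inv, Matrix.adjugate_fin_two]
    ext i j
    fin_cases i <;> fin_cases j <;> simp [companion, coe_mkSL, Matrix.mul_apply] <;> ring
  · apply Subtype.ext
    rw [Matrix.SpecialLinearGroup.coe_mul, Matrix.SpecialLinearGroup.coe_neg]
    ext i j
    fin_cases i <;> fin_cases j <;> simp [coe_mkSL, Matrix.mul_apply] <;>
      first | linear_combination hac | ring

end CfsgLib.SL2Mult
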