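import Cfsg.Agent.SchurBound.Basic
import Cfsg.Agent.Schur.Basic
import Cfsg.Agent.SchurTheory.Metacyclic
import Cfsg.Agent.SL2Mult.Elements

/-!
The Schur multiplier of `SL(2,q)` is trivial for `q ≠ 4, 9`.
-/

set_option autoImplicit false
set_option linter.style.haveILetI false

namespace CfsgLib.SL2Mult

open Polynomial
open scoped Matrix MatrixGroups commutatorElement

/-- a bi-additive pairing invariant under multiplication by two suitable scalars is trivial -/
theorem pairing_eq_one_pair {F Γ : Type*} [Field F] [Group Γ] (γ : F → F → Γ)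
    (hl : ∀ a a' b, γ (a + a') b = γ a b * γ a' b) (hr : ∀ a b b', γ a (b + b') = γ a b * γ a b')
    {s : F} (hs : s ≠ 0) (hs1 : s + 1 ≠ 0) (hne : s ^ 2 + s + 1 ≠ 0)
    (his : ∀ a b, γ (s * a) (s * b) = γ a b)
    (his1 : ∀ a b, γ ((s + 1) * a) ((s + 1) * b) = γ a b) (a b : F) : γ a b = 1 := by
  have e1 : ∀ a b, γ a (s * b) = γ (a / s) b := fun a b => by
    rw [← his (a / s) b, mul_div_cancel₀ a hs]
  have e2 : ∀ a b, γ a ((s + 1) * b) = γ (a / (s + 1)) b := fun a b => by
    rw [← his1 (a / (s + 1)) b, mul_div_cancel₀ a hs1]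
  have hd : 1 / s + 1 - 1 / (s + 1) ≠ 0 := by
    intro h
    apply hne
    field_simp at h
    linear_combination h
  have key : ∀ a b, γ (a * (1 / s + 1 - 1 / (s + 1))) b = 1 := by
    intro a b
    have h1 : γ (a * (1 / s + 1)) b = γ (a / (s + 1)) b := by
      rw [← e2, add_mul, one_mul, hr, e1, ← hl]
      congr 1
      ring
    have h2 := hl (a * (1 / s + 1 - 1 / (s + 1))) (a / (s + 1)) b
    rw [show a * (1 / s + 1 - 1 / (s + 1)) + a / (s + 1) = a * (1 / s + 1) by ring, h1] at h2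
    simpa using h2
  have := key (a / (1 / s + 1 - 1 / (s + 1))) b
  rwa [div_mul_cancel₀ a hd] at this

theorem exists_scalar {F : Type*} [Field F] [Fintype F]
    (h : (ringChar F = 2 ∧ 8 ≤ Fintype.card F) ∨ (ringChar F ≠ 2 ∧ 14 ≤ Fintype.card F)) :
    ∃ s : F, s ≠ 0 ∧ s + 1 ≠ 0 ∧ s ^ 2 + s + 1 ≠ 0 ∧ IsSquare s ∧ IsSquare (s + 1) := by
  classical
  rcases h with ⟨h2, hq⟩ | ⟨h2, hq⟩
  · set P : F[X] := X * (X + 1) * (X ^ 2 + X + 1) with hP
    have hdeg : P.natDegree ≤ 4 := by rw [hP]; compute_degree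
    have hm : P.Monic := by rw [hP]; monicity!
    obtain ⟨s, -, hs⟩ := Finset.exists_mem_notMem_of_card_lt_card
      (s := P.roots.toFinset) (t := (Finset.univ : Finset F)) (by
        have h3 := P.roots.toFinset_card_le
        have h4 := P.card_roots'
        rw [Finset.card_univ]
        omega)
    rw [Multiset.mem_toFinset, mem_roots hm.ne_zero, IsRoot, hP] at hs
    simp only [eval_mul, eval_add, eval_pow, eval_X, eval_one, mul_eq_zero, not_or] at hs
    exact ⟨s, hs.1.1, hs.1.2, hs.2, FiniteField.isSquare_of_char_two h2 _,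
      FiniteField.isSquare_of_char_two h2 _⟩
  · have two : (2 : F) ≠ 0 := Ring.two_ne_zero h2
    set R : F[X] := (X ^ 2 - 1) ^ 4 + C 4 * X ^ 2 * (X ^ 2 - 1) ^ 2 + C 16 * X ^ 4 with hR
    set P : F[X] := X * (X ^ 2 - 1) * (X ^ 2 + 1) * R with hP
    have hRne : R ≠ 0 := by
      intro h
      have := congrArg (Polynomial.eval (0 : F)) h
      simp [hR] at this
    have hPne : P ≠ 0 := by
      refine mul_ne_zero (mul_ne_zero (mul_ne_zero X_ne_zero ?_) ?_) hRne
      · intro h
        have := congrArg (Polynomial.eval (0 : F)) h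
        simp at this
      · intro h
        have := congrArg (Polynomial.eval (0 : F)) h
        simp at this
    have hdeg : P.natDegree ≤ 13 := by rw [hP, hR]; compute_degree
    obtain ⟨u, -, hu⟩ := Finset.exists_mem_notMem_of_card_lt_card
      (s := P.roots.toFinset) (t := (Finset.univ : Finset F)) (by
        have h3 := P.roots.toFinset_card_le
        have h4 := P.card_roots'
        rw [Finset.card_univ]
        omega)
    rw [Multiset.mem_toFinset, mem_roots hPne, IsRoot, hP, hR] at hu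
    simp only [eval_mul, eval_add, eval_sub, eval_pow, eval_X, eval_one, eval_C, mul_eq_zero,
      not_or] at hu
    obtain ⟨⟨⟨hu0, hu1⟩, hu2⟩, hu3⟩ := hu
    have hy : ((u - 1 / u) / 2) ^ 2 + 1 = ((u + 1 / u) / 2) ^ 2 := by field_simp; ring
    refine ⟨((u - 1 / u) / 2) ^ 2, ?_, ?_, ?_, ⟨(u - 1 / u) / 2, by ring⟩,
      ⟨(u + 1 / u) / 2, by rw [hy]; ring⟩⟩
    · intro h
      apply hu1
      have h' := eq_zero_of_pow_eq_zero h
      field_simp at h'
      linear_combination h'
    · rw [hy]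
      intro h
      apply hu2
      have h' := eq_zero_of_pow_eq_zero h
      field_simp at h'
      linear_combination h'
    · intro h
      apply hu3
      field_simp at h
      linear_combination h

universe u

variable {F : Type u} [Field F]

/-- the preimage of the root subgroup in a central extension is abelian -/
theorem up_preimage_abelian {Γ : Type*} [Group Γ] (σ : Γ →* SL(2, F))
    (hsurj : Function.Surjective σ) (hc : σ.ker ≤ Subgroup.center Γ) {s : F} (hs : s ≠ 0)
    (hs1 : s + 1 ≠ 0) (hne : s ^ 2 + s + 1 ≠ 0) (hsq : IsSquare s) (hsq1 : IsSquare (s + 1)) :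
    ⁅(upHom F).range.comap σ, (upHom F).range.comap σ⁆ = ⊥ := by
  let L := Function.surjInv hsurj
  have hL : ∀ g, σ (L g) = g := Function.surjInv_eq hsurj
  let γ : F → F → Γ := fun a b => ⁅L (up a), L (up b)⁆
  have hker : ∀ a b, σ (γ a b) = 1 := fun a b => by
    simp only [γ, map_commutatorElement, hL]
    rw [commutatorElement_eq_one_iff_mul_comm, ← up_add, ← up_add, add_comm]
  have hcc : ∀ a b y, Commute (γ a b) y := fun a b y =>
    SchurBound.commute_of_mem_ker σ hc (hker a b) y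
  have hinv : ∀ r : F, r ≠ 0 → IsSquare r → ∀ a b, γ (r * a) (r * b) = γ a b := by
    rintro r hr ⟨m, rfl⟩ a b
    have hm : m ≠ 0 := fun h => hr (by rw [h, mul_zero])
    set T := L (torusHom F (Units.mk0 m hm))
    have h := SchurBound.conj_commutator T (L (up a)) (L (up b))
    have e : ∀ a, σ (T * L (up a) * T⁻¹) = σ (L (up (m * m * a))) := fun a => by
      simp [T, hL, map_mul, map_inv, torus_conj_up, sq]
    rw [SchurBound.commutator_congr σ hc (e a) (e b)] at h
    change T * γ a b * T⁻¹ = γ (m * m * a) (m * m * b) at h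
    rw [← h, ← (hcc a b T).eq, mul_inv_cancel_right]
  have hγ : ∀ a b, γ a b = 1 := by
    refine fun a b => pairing_eq_one_pair γ ?_ ?_ hs hs1 hne (hinv s hs hsq)
      (hinv (s + 1) hs1 hsq1) a b
    · intro a a' c
      simp only [γ]
      rw [SchurBound.commutator_congr σ hc
        (show σ (L (up (a + a'))) = σ (L (up a) * L (up a')) by simp [hL, up_add]) rfl,
        SchurBound.commutator_mul_left (hcc a' c (L (up a))).symm]
      exact (hcc a' c _).eq
    · intro a c c'
      simp only [γ]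
      rw [SchurBound.commutator_congr σ hc rfl
        (show σ (L (up (c + c'))) = σ (L (up c) * L (up c')) by simp [hL, up_add]),
        SchurBound.commutator_mul_right (hcc a c' (L (up c))).symm]
  rw [eq_bot_iff, Subgroup.commutator_le]
  intro x hx y hy
  obtain ⟨a, ha⟩ := hx
  obtain ⟨b, hb⟩ := hy
  rw [Subgroup.mem_bot]
  refine (SchurBound.commutator_congr σ hc ?_ ?_).trans (hγ a.toAdd b.toAdd) <;>
    rw [hL] <;> [exact ha.symm; exact hb.symm]

/-- The two-part of a stem extension vanishes over a dicyclic subgroup of odd index. -/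
theorem ker_eq_bot_of_dicyclic {G Γ : Type*} [Group G] [Finite G] [Group Γ] [Finite Γ]
    (g w : G) {m : ℕ} (hm : 0 < m) (hg : orderOf g = 2 * m) (hconj : w * g * w⁻¹ = g⁻¹)
    (hw : w * w = g ^ m) (hidx : ¬ 2 ∣ (Subgroup.closure ({g, w} : Set G)).index)
    (σ : Γ →* G) (hσ : Cfsg.IsStemExtension σ) (hexp : ∀ z ∈ σ.ker, z ^ 2 = 1) : σ.ker = ⊥ := by
  rw [eq_bot_iff]
  intro z hz
  rw [Subgroup.mem_bot]
  set H := (Subgroup.closure ({g, w} : Set G)).comap σ with hH
  have h1 : z ∈ ⁅H, H⁆ := by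
    refine CfsgLib.Schur.mem_commutator_of_index_coprime H (hσ.2.1 hz) (hσ.2.2 hz) ?_
    rw [hH, Subgroup.index_comap_of_surjective _ hσ.1]
    exact Nat.Coprime.coprime_dvd_left (orderOf_dvd_of_pow_eq_one (hexp z hz))
      (Nat.prime_two.coprime_iff_not_dvd.2 hidx)
  obtain ⟨a, ha⟩ := hσ.1 g
  obtain ⟨b, hb⟩ := hσ.1 w
  have haH : a ∈ H := by
    rw [hH, Subgroup.mem_comap, ha]; exact Subgroup.subset_closure (by simp)
  have hbH : b ∈ H := by
    rw [hH, Subgroup.mem_comap, hb]; exact Subgroup.subset_closure (by simp)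
  -- `b a b⁻¹ a = c` is central
  set c := b * a * b⁻¹ * a with hc
  have hcz : ∀ y, Commute c y := fun y => SchurBound.commute_of_mem_ker σ hσ.2.1
    (by simp [hc, map_mul, map_inv, ha, hb, hconj]) y
  set e := b * a * b⁻¹ * a⁻¹ with he
  have he2 : e = c * (a⁻¹ * a⁻¹) := by simp only [hc, he]; group
  have hbab : b * a * b⁻¹ = c * a⁻¹ := by simp only [hc]; group
  have hbai : b * a⁻¹ * b⁻¹ = a * c⁻¹ := by
    rw [show b * a⁻¹ * b⁻¹ = (b * a * b⁻¹)⁻¹ by group, hbab]; group
  have hea : a * e * a⁻¹ = e := by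
    rw [he2, ← mul_assoc a, ← (hcz a).eq]; group
  have heb : b * e * b⁻¹ = e⁻¹ := by
    have h1 : b * c * b⁻¹ = c := by rw [← (hcz b).eq, mul_inv_cancel_right]
    calc b * e * b⁻¹ = (b * c * b⁻¹) * ((b * a⁻¹ * b⁻¹) * (b * a⁻¹ * b⁻¹)) := by
          rw [he2]; group
      _ = c * ((c⁻¹ * a) * (c⁻¹ * a)) := by rw [h1, hbai, ← (hcz a).inv_left.eq]
      _ = a * (c⁻¹ * a) := by group
      _ = a * (a * c⁻¹) := by rw [(hcz a).inv_left.eq]
      _ = e⁻¹ := by rw [he2]; simp only [mul_inv_rev, inv_inv, mul_assoc]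
  have hem : e ^ m = 1 := by
    have hbam : b * a ^ m * b⁻¹ = a ^ m := by
      set k := (b * b) * (a ^ m)⁻¹ with hk
      have hkb : Commute k b := SchurBound.commute_of_mem_ker σ hσ.2.1
        (by simp [hk, ha, hb, hw]) b
      have ea : a ^ m = k⁻¹ * (b * b) := by rw [hk]; group
      rw [ea, ← mul_assoc b, ← hkb.inv_left.eq]
      group
    have h2 : (c * a⁻¹) ^ m = a ^ m := by
      rw [← hbab, conj_pow, hbam]
    rw [(hcz _).mul_pow, inv_pow, mul_inv_eq_iff_eq_mul] at h2
    rw [he2, (hcz _).mul_pow, (Commute.refl a⁻¹).mul_pow, inv_pow, h2]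
    group
  have hle : ⁅H, H⁆ ≤ Subgroup.zpowers e := by
    have hcen : ∀ x ∈ σ.ker, ∀ y : Γ, Commute x y := fun x hx y =>
      SchurBound.commute_of_mem_ker σ hσ.2.1 hx y
    have hgen : Subgroup.closure ({⟨a, haH⟩, ⟨b, hbH⟩} ∪ (Subgroup.center H : Set H)) = ⊤ := by
      refine CfsgLib.SchurTheory.closure_union_center_eq_top
        ((σ.comp H.subtype).codRestrict (Subgroup.closure ({g, w} : Set G)) (fun x => x.2)) ?_ ?_
      · intro x hx
        rw [Subgroup.mem_center_iff]
        intro y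
        exact Subtype.ext (hcen (x : Γ) (congrArg Subtype.val hx) y).symm.eq
      · rw [← Subgroup.map_injective (Subgroup.subtype_injective _) |>.eq_iff,
          MonoidHom.map_closure, Set.image_pair, ← MonoidHom.range_eq_map,
          Subgroup.range_subtype]
        show Subgroup.closure ({σ a, σ b} : Set G) = _
        rw [ha, hb]
    have hfin : IsOfFinOrder e := isOfFinOrder_of_finite e
    have hmem : (⟨e, H.mul_mem (H.mul_mem (H.mul_mem hbH haH) (H.inv_mem hbH)) (H.inv_mem haH)⟩ : H) =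
        ⁅(⟨b, hbH⟩ : H), (⟨a, haH⟩ : H)⁆ := Subtype.ext rfl
    have key := CfsgLib.SchurTheory.commutator_le_zpowers hgen hmem.symm
      (by rw [Subgroup.mem_zpowers_iff]; exact ⟨1, Subtype.ext (by simp [hea])⟩)
      (by rw [Subgroup.mem_zpowers_iff]; exact ⟨-1, Subtype.ext (by simp [heb])⟩)
      (isOfFinOrder_of_finite _)
    rw [Subgroup.commutator_le]
    intro x hx y hy
    obtain ⟨k, hk⟩ := Subgroup.mem_zpowers_iff.1 (key
      (Subgroup.commutator_mem_commutator (Subgroup.mem_top (⟨x, hx⟩ : H))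
        (Subgroup.mem_top (⟨y, hy⟩ : H))))
    exact Subgroup.mem_zpowers_iff.2 ⟨k, by simpa [commutatorElement_def] using congrArg Subtype.val hk⟩
  obtain ⟨k, rfl⟩ := Subgroup.mem_zpowers_iff.1 (hle h1)
  rw [MonoidHom.mem_ker, map_zpow] at hz
  have hσe : σ e = (g ^ 2)⁻¹ := by
    simp [he, map_mul, map_inv, ha, hb, hconj, sq]
  rw [hσe, inv_zpow, inv_eq_one, ← zpow_natCast, ← zpow_mul, ← orderOf_dvd_iff_zpow_eq_one,
    hg] at hz
  have hk : (m : ℤ) ∣ k := by
    obtain ⟨l, hl⟩ := hz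
    exact ⟨l, by push_cast at hl; linarith⟩
  obtain ⟨l, rfl⟩ := hk
  rw [zpow_mul, zpow_natCast, hem, one_zpow]

section Field

variable [Fintype F]

theorem dicyclic_index {G : Type*} [Group G] [Finite G] (g w : G) (hw : w ∉ Subgroup.zpowers g)
    (hconj : w * g * w⁻¹ = g⁻¹) (hww : w * w ∈ Subgroup.zpowers g) {k : ℕ} (hk : Odd k)
    (hcard : Nat.card G = 2 * orderOf g * k) :
    ¬ 2 ∣ (Subgroup.closure ({g, w} : Set G)).index := by
  set H := Subgroup.closure ({g, w} : Set G)
  have hle : Subgroup.zpowers g ≤ H := Subgroup.zpowers_le.2 (Subgroup.subset_closure (by simp))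
  let K := (Subgroup.zpowers g).subgroupOf H
  have hwH : w ∈ H := Subgroup.subset_closure (by simp)
  have hgH : g ∈ H := Subgroup.subset_closure (by simp)
  have hwg : ∀ n : ℤ, w * g ^ n * w⁻¹ = g ^ (-n) := fun n => by
    rw [← conj_zpow, hconj, inv_zpow']
  have hcov : ∀ x ∈ H, x ∈ Subgroup.zpowers g ∨ x * w ∈ Subgroup.zpowers g := by
    intro x hx
    induction hx using Subgroup.closure_induction with
    | mem x hx =>
      rcases hx with rfl | rfl
      · exact Or.inl (Subgroup.mem_zpowers x)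
      · exact Or.inr hww
    | one => exact Or.inl (Subgroup.one_mem _)
    | mul x y _ _ ihx ihy =>
      rcases ihy with ⟨n, hn⟩ | ⟨n, hn⟩
      · simp only at hn
        rcases ihx with h | ⟨i, hi⟩
        · exact Or.inl ((Subgroup.zpowers g).mul_mem h ⟨n, hn⟩)
        · simp only at hi
          right
          have : x * y * w = (x * w) * (w⁻¹ * g ^ n * w) := by rw [← hn]; group
          rw [this, ← hi]
          refine (Subgroup.zpowers g).mul_mem ⟨i, rfl⟩ ⟨-n, ?_⟩
          have h := hwg (-n)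
          rw [neg_neg] at h
          simp only
          rw [← h]; group
      · simp only at hn
        rcases ihx with h | ⟨i, hi⟩
        · right
          rw [mul_assoc, ← hn]
          exact (Subgroup.zpowers g).mul_mem h ⟨n, rfl⟩
        · simp only at hi
          left
          have : x * y = (x * w) * ((w * w)⁻¹ * (w * (y * w) * w⁻¹)) := by group
          rw [this, ← hi, ← hn, hwg]
          exact (Subgroup.zpowers g).mul_mem ⟨i, rfl⟩
            ((Subgroup.zpowers g).mul_mem ((Subgroup.zpowers g).inv_mem hww) ⟨-n, rfl⟩)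
    | inv x _ ih =>
      rcases ih with h | ⟨n, hn⟩
      · exact Or.inl ((Subgroup.zpowers g).inv_mem h)
      · simp only at hn
        right
        have : x⁻¹ * w = (w * (x * w)⁻¹ * w⁻¹) * (w * w) := by group
        rw [this, ← hn, ← zpow_neg, hwg]
        exact (Subgroup.zpowers g).mul_mem ⟨- -n, rfl⟩ hww
  have hK : K.index = 2 := by
    rw [Subgroup.index_eq_two_iff]
    refine ⟨⟨w, hwH⟩, fun b => ?_⟩
    simp only [K, Subgroup.mem_subgroupOf, Subgroup.coe_mul]
    rcases hcov b b.2 with h | h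
    · exact Or.inr ⟨h, fun h' => hw (by
        simpa using (Subgroup.zpowers g).mul_mem ((Subgroup.zpowers g).inv_mem h) h')⟩
    · exact Or.inl ⟨h, fun h' => hw (by
        simpa using (Subgroup.zpowers g).mul_mem ((Subgroup.zpowers g).inv_mem h') h)⟩
  have hc : Nat.card H = 2 * orderOf g := by
    rw [← K.card_mul_index, hK, Nat.card_congr (Subgroup.subgroupOfEquivOfLe hle).toEquiv,
      Nat.card_zpowers, mul_comm]
  have h1 := H.card_mul_index
  rw [hc, hcard] at h1
  rw [Nat.eq_of_mul_eq_mul_left (by have := orderOf_pos g; positivity) h1]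
  exact Nat.not_even_iff_odd.2 hk ∘ even_iff_two_dvd.2

/-- away from the characteristic the multiplier of `SL(2,q)` is trivial -/
theorem ker_eq_bot_of_ne_char (p : ℕ) [CharP F p] {ℓ : ℕ} [Fact ℓ.Prime] (hℓp : ℓ ≠ p)
    (hdvd : ℓ ∣ Nat.card SL(2, F)) {Γ : Type*} [Group Γ] [Finite Γ] (σ : Γ →* SL(2, F))
    (hσ : Cfsg.IsStemExtension σ) (hexp : ∀ z ∈ σ.ker, z ^ ℓ = 1) : σ.ker = ⊥ := by
  classical
  have hℓ : ℓ.Prime := Fact.out
  obtain ⟨n, hpp, hq⟩ := FiniteField.card F p
  haveI := Fact.mk hpp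
  have hcard := CfsgLib.Linear.card_SL_two (F := F)
  set q := Fintype.card F with hqdef
  have hq2 : 2 ≤ q := Fintype.one_lt_card
  have hfac : Nat.card SL(2, F) = q * ((q - 1) * (q + 1)) := by
    rw [hcard, show q ^ 2 - 1 = (q - 1) * (q + 1) by
      rw [mul_comm, ← Nat.sq_sub_sq, one_pow]]
  have index_of : ∀ {g : SL(2, F)} {k : ℕ}, Nat.card SL(2, F) = orderOf g * k →
      (Subgroup.zpowers g).index = k := fun {g k} h => by
    have h1 := (Subgroup.zpowers g).card_mul_index
    rw [Nat.card_zpowers, h] at h1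
    exact Nat.eq_of_mul_eq_mul_left (orderOf_pos g) h1
  have hℓq : ¬ ℓ ∣ q := fun h => hℓp
    ((Nat.prime_dvd_prime_iff_eq hℓ hpp).1 (hℓ.dvd_of_dvd_pow (hq ▸ h)))
  obtain ⟨t, hno, hC⟩ := exists_nonsplit (F := F)
  obtain ⟨g, hg, μ, rfl⟩ := exists_split (F := F)
  by_cases hℓ2 : ℓ = 2
  · subst hℓ2
    have hodd : q % 2 = 1 := Nat.odd_iff.1 (Nat.not_even_iff_odd.1
      (fun h => hℓq (even_iff_two_dvd.1 h)))
    have h2F : (2 : F) ≠ 0 := Ring.two_ne_zero (by
      rw [ringChar.eq F p]; exact fun h => hℓp h.symm)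
    have not_mem : ∀ {g w : SL(2, F)}, 2 < orderOf g → w * g * w⁻¹ = g⁻¹ →
        w ∉ Subgroup.zpowers g := by
      intro g w h2 hconj hmem
      obtain ⟨k, rfl⟩ := Subgroup.mem_zpowers_iff.1 hmem
      have : g = g⁻¹ := by rw [← hconj]; group
      have hsq : g ^ 2 = 1 := by rw [sq, mul_eq_one_iff_eq_inv]; exact this
      have := Nat.le_of_dvd two_pos (orderOf_dvd_of_pow_eq_one hsq)
      omega
    rcases (show q % 4 = 1 ∨ q % 4 = 3 by omega) with h1 | h3
    · obtain ⟨w, hconj, hww⟩ := exists_split_inverter (F := F) μ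
      have hm : orderOf (torusHom F μ) = 2 * ((q - 1) / 2) := by rw [hg]; omega
      have hgm := pow_half_eq h2F (m := (q - 1) / 2) (by omega) hm
      refine ker_eq_bot_of_dicyclic _ w (by omega) hm hconj (hww.trans hgm.symm) ?_ σ hσ hexp
      refine dicyclic_index _ w (not_mem (by omega) hconj) hconj
        (hww ▸ hgm ▸ Subgroup.pow_mem _ (Subgroup.mem_zpowers _) _)
        (k := q * ((q + 1) / 2)) ((Nat.odd_iff.2 hodd).mul (Nat.odd_iff.2 (by omega))) ?_
      rw [hfac, hg]
      obtain ⟨j, hj⟩ : ∃ j, q + 1 = 2 * j := ⟨(q + 1) / 2, by omega⟩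
      rw [hj, Nat.mul_div_cancel_left j two_pos]; ring
    · obtain ⟨w, hconj, hww⟩ := exists_nonsplit_inverter t h2F hno
      have hm : orderOf (CfsgLib.SL2Trace.companion t) = 2 * ((q + 1) / 2) := by rw [hC]; omega
      have hgm := pow_half_eq h2F (m := (q + 1) / 2) (by omega) hm
      refine ker_eq_bot_of_dicyclic _ w (by omega) hm hconj (hww.trans hgm.symm) ?_ σ hσ hexp
      refine dicyclic_index _ w (not_mem (by omega) hconj) hconj
        (hww ▸ hgm ▸ Subgroup.pow_mem _ (Subgroup.mem_zpowers _) _)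
        (k := q * ((q - 1) / 2)) ((Nat.odd_iff.2 hodd).mul (Nat.odd_iff.2 (by omega))) ?_
      rw [hfac, hC]
      obtain ⟨j, hj⟩ : ∃ j, q - 1 = 2 * j := ⟨(q - 1) / 2, by omega⟩
      rw [hj, Nat.mul_div_cancel_left j two_pos]; ring
  · have hne : ¬ (ℓ ∣ q - 1 ∧ ℓ ∣ q + 1) := fun h => hℓ2
      ((Nat.prime_dvd_prime_iff_eq hℓ Nat.prime_two).1 (by
        have := Nat.dvd_sub h.2 h.1
        rwa [show q + 1 - (q - 1) = 2 by omega] at this))
    rw [hfac, hℓ.dvd_mul, hℓ.dvd_mul] at hdvd
    rcases hdvd with h | h | h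
    · exact absurd h hℓq
    · refine CfsgLib.Schur.ker_eq_bot_of_index_zpowers hℓ (torusHom F μ) ?_ σ hσ hexp
      rw [index_of (k := q * (q + 1)) (by rw [hfac, hg]; ring), hℓ.dvd_mul]
      exact fun h' => h'.elim hℓq fun h'' => hne ⟨h, h''⟩
    · refine CfsgLib.Schur.ker_eq_bot_of_index_zpowers hℓ (CfsgLib.SL2Trace.companion t) ?_ σ hσ hexp
      rw [index_of (k := q * (q - 1)) (by rw [hfac, hC]; ring), hℓ.dvd_mul]
      exact fun h' => h'.elim hℓq fun h'' => hne ⟨h'', h⟩

theorem hasCyclicSchurMultiplier_sl_two (h4 : Fintype.card F ≠ 4) (h9 : Fintype.card F ≠ 9) :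
    Cfsg.HasCyclicSchurMultiplier (SL(2, F)) 1 := by
  classical
  obtain ⟨p, hp⟩ := CharP.exists F
  obtain ⟨n, hpp, hq⟩ := FiniteField.card F p
  haveI := Fact.mk hpp
  have hcard := CfsgLib.Linear.card_SL_two (F := F)
  set q := Fintype.card F with hqdef
  have hq2 : 2 ≤ q := Fintype.one_lt_card
  have hfac : Nat.card SL(2, F) = q * ((q - 1) * (q + 1)) := by
    rw [hcard, show q ^ 2 - 1 = (q - 1) * (q + 1) by
      rw [mul_comm, ← Nat.sq_sub_sq, one_pow]]
  refine CfsgLib.Schur.hasCyclicSchurMultiplier_one _ fun ℓ hℓ hdvd Γ _ _ σ hσ hexp => ?_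
  haveI := Fact.mk hℓ
  by_cases hℓp : ℓ = p
  · subst hℓp
    have hU : ¬ ℓ ∣ (upHom F).range.index := by
      have h1 := (upHom F).range.card_mul_index
      rw [card_range_upHom, hfac] at h1
      rw [Nat.eq_of_mul_eq_mul_left (by omega) h1, hℓ.dvd_mul]
      rintro (h | h)
      · have hd : ℓ ∣ q := hq ▸ dvd_pow_self ℓ n.pos.ne'
        have := Nat.dvd_sub hd h
        rw [show q - (q - 1) = 1 by omega] at this
        exact hℓ.not_dvd_one this
      · have hd : ℓ ∣ q := hq ▸ dvd_pow_self ℓ n.pos.ne'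
        have := Nat.dvd_sub h hd
        rw [show q + 1 - q = 1 by omega] at this
        exact hℓ.not_dvd_one this
    by_cases hn : (n : ℕ) = 1
    · refine CfsgLib.Schur.ker_eq_bot_of_index_zpowers hℓ (up (1 : F)) ?_ σ hσ hexp
      have hzp : Subgroup.zpowers (up (1 : F)) = (upHom F).range := by
        refine Subgroup.eq_of_le_of_card_ge (Subgroup.zpowers_le.2 ⟨Multiplicative.ofAdd 1, rfl⟩) ?_
        rw [card_range_upHom, Nat.card_zpowers, show up (1 : F) = upHom F (Multiplicative.ofAdd 1)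
          from rfl, orderOf_injective (upHom F) (fun a b h =>
            Multiplicative.toAdd.injective (up_injective h)), orderOf_ofAdd_eq_addOrderOf,
          show addOrderOf (1 : F) = ℓ from CharP.eq F (CharP.addOrderOf_one F) hp, ← hqdef, hq, hn, pow_one]
      rw [hzp]; exact hU
    · have hn2 : 2 ≤ (n : ℕ) := by have := n.pos; omega
      have hsize : (ringChar F = 2 ∧ 8 ≤ q) ∨ (ringChar F ≠ 2 ∧ 14 ≤ q) := by
        rw [ringChar.eq F ℓ]
        by_cases h2 : ℓ = 2
        · subst h2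
          refine Or.inl ⟨rfl, ?_⟩
          have hn3 : 3 ≤ (n : ℕ) := by
            by_contra hlt
            exact h4 (by rw [hq, show (n : ℕ) = 2 by omega]; rfl)
          calc 8 = 2 ^ 3 := rfl
            _ ≤ q := hq ▸ Nat.pow_le_pow_right (by norm_num) hn3
        · refine Or.inr ⟨h2, ?_⟩
          have h3 : 3 ≤ ℓ := by have := hℓ.two_le; omega
          rcases eq_or_lt_of_le h3 with rfl | h5
          · have hn3 : 3 ≤ (n : ℕ) := by
              by_contra hlt
              exact h9 (by rw [hq, show (n : ℕ) = 2 by omega]; rfl)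
            calc 14 ≤ 3 ^ 3 := by norm_num
              _ ≤ q := hq ▸ Nat.pow_le_pow_right (by norm_num) hn3
          · calc 14 ≤ 4 ^ 2 := by norm_num
              _ ≤ ℓ ^ 2 := Nat.pow_le_pow_left h5 2
              _ ≤ q := hq ▸ Nat.pow_le_pow_right hℓ.one_le hn2
      obtain ⟨s, hs, hs1, hne, hsq, hsq1⟩ := exists_scalar hsize
      rw [eq_bot_iff]
      intro z hz
      rw [← up_preimage_abelian σ hσ.1 hσ.2.1 hs hs1 hne hsq hsq1]
      refine CfsgLib.Schur.mem_commutator_of_index_coprime _ (hσ.2.1 hz) (hσ.2.2 hz) ?_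
      rw [Subgroup.index_comap_of_surjective _ hσ.1]
      exact Nat.Coprime.coprime_dvd_left (orderOf_dvd_of_pow_eq_one (hexp z hz))
        (hℓ.coprime_iff_not_dvd.2 hU)
  · exact ker_eq_bot_of_ne_char p hℓp hdvd σ hσ hexp

end Field

end CfsgLib.SL2Mult
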